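import Mathlib
import Cfsg.Agent.H84.FrobeniusCount
import Cfsg.Agent.H67.TwoByTwo
import Cfsg.Agent.Linear.Order

/-!
Counting elements by order in groups of order `q (q ^ 2 - 1)` and in `PGL₂(q)`, `q` odd.
-/

set_option autoImplicit false

namespace Cfsg.Agent.H43.NsePGL

universe u

/-- Number of elements of order `n`. -/
noncomputable def num (X : Type u) [Group X] (n : ℕ) : ℕ := Nat.card {g : X // orderOf g = n}

theorem num_one (X : Type u) [Group X] : num X 1 = 1 := by
  haveI : Unique {g : X // orderOf g = 1} :=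
    ⟨⟨⟨1, orderOf_one⟩⟩, fun a => Subtype.ext (orderOf_eq_one_iff.1 a.2)⟩
  exact Nat.card_unique

theorem even_num (X : Type u) [Group X] [Finite X] {n : ℕ} (hn : 2 < n) : Even (num X n) := by
  classical
  haveI := Fintype.ofFinite X
  rw [num, Nat.card_eq_fintype_card, Fintype.card_subtype, even_iff_two_dvd,
    ← ZMod.natCast_eq_zero_iff]
  rw [Finset.card_eq_sum_ones, Nat.cast_sum]
  refine Finset.sum_involution (fun g _ => g⁻¹) (fun _ _ => by rfl) (fun g hg _ h => ?_)
    (fun g hg => by simpa using hg) (fun g _ => inv_inv g)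
  simp only [Finset.mem_filter, Finset.mem_univ, true_and] at hg
  have : orderOf g ∣ 2 := orderOf_dvd_of_pow_eq_one (by rw [sq]; nth_rewrite 1 [← h]; exact inv_mul_cancel g)
  have := Nat.le_of_dvd (by norm_num) this
  omega

theorem dvd_filter_card {X : Type u} [Group X] [Fintype X] [DecidableEq X] (S : Finset X) (d : ℕ)
    (hS : ∀ g ∈ S, ∀ g' : X, orderOf g' = orderOf g → g' ∈ S) (h : ∀ g ∈ S, d ∣ num X (orderOf g)) :
    d ∣ S.card := by
  classical
  rw [Finset.card_eq_sum_card_image (orderOf : X → ℕ) S]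
  refine Finset.dvd_sum fun n hn => ?_
  obtain ⟨g, hg, rfl⟩ := Finset.mem_image.1 hn
  suffices e : (S.filter fun x => orderOf x = orderOf g).card = num X (orderOf g) by
    rw [e]; exact h g hg
  unfold num
  rw [Nat.card_eq_fintype_card, Fintype.card_subtype]
  congr 1
  ext x
  simp only [Finset.mem_filter, Finset.mem_univ, true_and]
  exact ⟨fun hx => hx.2, fun hx => ⟨hS g hg x hx, hx⟩⟩

variable {p f : ℕ} [hp : Fact p.Prime]

theorem coprime_aux (hf : 1 ≤ f) : Nat.Coprime p ((p ^ f) ^ 2 - 1) := by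
  rw [hp.out.coprime_iff_not_dvd]
  intro h
  have h1 : p ∣ (p ^ f) ^ 2 := by
    rw [← pow_mul]; exact dvd_pow_self p (by omega)
  have h2 : 1 ≤ (p ^ f) ^ 2 := Nat.one_le_pow _ _ (pow_pos hp.out.pos _)
  have h3 : p ∣ 1 := by
    have := Nat.dvd_sub h1 h
    rwa [Nat.sub_sub_self h2] at this
  exact hp.out.ne_one (Nat.dvd_one.1 h3)

theorem pow_eq_one_iff_not_dvd {X : Type u} [Group X] [Finite X] (hf : 1 ≤ f)
    (hX : Nat.card X = p ^ f * ((p ^ f) ^ 2 - 1)) (g : X) :
    g ^ ((p ^ f) ^ 2 - 1) = 1 ↔ ¬ p ∣ orderOf g := by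
  constructor
  · intro h hd
    exact (hp.out.coprime_iff_not_dvd.1 (coprime_aux hf)) (hd.trans (orderOf_dvd_of_pow_eq_one h))
  · intro h
    apply orderOf_dvd_iff_pow_eq_one.1
    exact Nat.Coprime.dvd_of_dvd_mul_left
      ((hp.out.coprime_iff_not_dvd.2 h).symm.pow_right f) (hX ▸ orderOf_dvd_natCard g)

/-- `p`-singular elements number `q ^ 2 - 1`. -/
theorem card_singular {X : Type u} [Group X] [Fintype X] [DecidableEq X] (hp2 : p ≠ 2) (hf : 1 ≤ f)
    (hX : Nat.card X = p ^ f * ((p ^ f) ^ 2 - 1))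
    (hreg : ∀ g : X, ¬ p ∣ orderOf g → g ≠ 1 → p ^ f ∣ num X (orderOf g)) :
    (Finset.univ.filter fun g : X => p ∣ orderOf g).card = (p ^ f) ^ 2 - 1 := by
  classical
  set q := p ^ f with hq
  have hq2 : 2 ≤ q := le_trans hp.out.two_le (Nat.le_self_pow (by omega) p)
  set R := Finset.univ.filter fun g : X => ¬ p ∣ orderOf g with hR
  set S := Finset.univ.filter fun g : X => p ∣ orderOf g with hS
  have hM : q ^ 2 - 1 ∣ R.card := by
    have := H84.dvd_card_pow_eq_one (G := X) (m := q ^ 2 - 1)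
      (hX ▸ Dvd.intro_left q rfl)
    rw [Nat.card_eq_fintype_card, Fintype.card_subtype] at this
    convert this using 3
    exact (pow_eq_one_iff_not_dvd hf hX _).symm
  have h1 : (1 : X) ∈ R := by simp [hR, hp.out.ne_one]
  have hd : q ∣ (R.erase 1).card := dvd_filter_card _ q
    (fun g hg g' h => by
      simp only [hR, Finset.mem_erase, Finset.mem_filter, Finset.mem_univ, true_and] at hg ⊢
      exact ⟨fun e => hg.1 (orderOf_eq_one_iff.1 (by rw [← h, e, orderOf_one])), h ▸ hg.2⟩)
    (fun g hg => by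
      simp only [hR, Finset.mem_erase, Finset.mem_filter, Finset.mem_univ, true_and] at hg
      exact hreg g hg.2 hg.1)
  have hsum : S.card + R.card = q * (q ^ 2 - 1) := by
    rw [← hX, Nat.card_eq_fintype_card, hS, hR, Finset.card_filter_add_card_filter_not]
    rfl
  obtain ⟨k, hk⟩ := hM
  obtain ⟨j, hj⟩ := hd
  have hR1 : R.card = q * j + 1 := by rw [← hj, Finset.card_erase_add_one h1]
  have hpos : 0 < q ^ 2 - 1 := by
    have : 2 ^ 2 ≤ q ^ 2 := Nat.pow_le_pow_left hq2 2
    omega
  have hS1 : 1 ≤ S.card := Finset.card_pos.2 (by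
    obtain ⟨x, hx⟩ := exists_prime_orderOf_dvd_card' (G := X) p
      (hX ▸ Dvd.dvd.mul_right (hq ▸ dvd_pow_self p (by omega)) _)
    exact ⟨x, by simp [hS, hx]⟩)
  have hklt : k < q := by
    by_contra hc
    push Not at hc
    have : (q ^ 2 - 1) * q ≤ (q ^ 2 - 1) * k := Nat.mul_le_mul_left _ hc
    rw [← hk] at this
    linarith [hsum, hS1, this, Nat.mul_comm q (q ^ 2 - 1)]
  have key : q ∣ k + 1 := by
    have e : (q ^ 2 - 1) * k + k = q * (q * k) := by
      have : (q ^ 2 - 1) + 1 = q ^ 2 := by omega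
      calc (q ^ 2 - 1) * k + k = ((q ^ 2 - 1) + 1) * k := by ring
        _ = q * (q * k) := by rw [this]; ring
    have e2 : q * j + (k + 1) = q * (q * k) := by linarith [hk, hR1, e]
    exact (Nat.dvd_add_right (Dvd.intro j rfl)).1 (e2 ▸ Dvd.intro (q * k) rfl)
  have hkq : k + 1 = q := le_antisymm hklt (Nat.le_of_dvd (by omega) key)
  have : S.card + (q ^ 2 - 1) * k = (q ^ 2 - 1) * k + (q ^ 2 - 1) := by
    rw [← hk, hsum, hk]
    nth_rewrite 1 [← hkq]
    ring
  omega

theorem num_prime_of_singular {X : Type u} [Group X] [Fintype X] [DecidableEq X]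
    (hs : ∀ g : X, p ∣ orderOf g → orderOf g = p) :
    num X p = (Finset.univ.filter fun g : X => p ∣ orderOf g).card := by
  rw [num, Nat.card_eq_fintype_card, Fintype.card_subtype]
  congr 1
  ext g
  simp only [Finset.mem_filter, Finset.mem_univ, true_and]
  exact ⟨fun h => h ▸ dvd_rfl, hs g⟩

/-- Free conjugation action of a Sylow subgroup on elements of a fixed order. -/
theorem dvd_num_of_free {X : Type u} [Group X] [Finite X] (U : Subgroup X) {n : ℕ}
    (hfree : ∀ u ∈ U, ∀ g : X, orderOf g = n → Commute u g → u = 1) : Nat.card U ∣ num X n := by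
  classical
  letI : MulAction U {g : X // orderOf g = n} :=
    { smul := fun u g => ⟨(u : X) * g.1 * (u : X)⁻¹, by
        exact (MulEquiv.orderOf_eq (MulAut.conj (u : X)) g.1).trans g.2⟩
      one_smul := fun g => Subtype.ext (by show (1 : X) * g.1 * 1⁻¹ = g.1; group)
      mul_smul := fun u v g => Subtype.ext (by
        show ((u : X) * v) * g.1 * ((u : X) * v)⁻¹ = (u : X) * ((v : X) * g.1 * (v : X)⁻¹) * (u : X)⁻¹
        group) }
  have hst : ∀ g : {g : X // orderOf g = n}, MulAction.stabilizer U g = ⊥ := fun g => by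
    rw [eq_bot_iff]
    intro u hu
    have e : (u : X) * g.1 * (u : X)⁻¹ = g.1 := congrArg Subtype.val (MulAction.mem_stabilizer_iff.1 hu)
    rw [Subgroup.mem_bot]
    exact Subtype.ext (hfree u u.2 g.1 g.2 (mul_inv_eq_iff_eq_mul.1 e))
  haveI := Fintype.ofFinite (MulAction.orbitRel.Quotient U {g : X // orderOf g = n})
  rw [num, Nat.card_congr (MulAction.selfEquivSigmaOrbits U {g : X // orderOf g = n}), Nat.card_sigma]
  refine Finset.dvd_sum fun o _ => ?_
  rw [Nat.card_congr (MulAction.orbitEquivQuotientStabilizer U o.out), hst, ← Subgroup.index,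
    Subgroup.index_bot]

section Model

variable {F : Type u} [Field F] [Fintype F]

open Matrix

local notation "PG" => (GL (Fin 2) F ⧸ Subgroup.center (GL (Fin 2) F))

theorem model_card (hq : Fintype.card F = p ^ f) : Nat.card PG = p ^ f * ((p ^ f) ^ 2 - 1) := by
  show Nat.card (Matrix.ProjGenLinGroup (Fin 2) F) = _
  rw [Linear.card_PGL_eq, Linear.card_SL_two, hq]

theorem ringChar_eq (hf : 1 ≤ f) (hq : Fintype.card F = p ^ f) : ringChar F = p := by
  obtain ⟨n, hr, hn⟩ := FiniteField.card F (ringChar F)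
  have h1 : p ∣ ringChar F ^ (n : ℕ) := by rw [← hn, hq]; exact dvd_pow_self p (by omega)
  exact ((Nat.prime_dvd_prime_iff_eq hp.out hr).1 (hp.out.dvd_of_dvd_pow h1)).symm

theorem model_singular (hp2 : p ≠ 2) (hf : 1 ≤ f) (hq : Fintype.card F = p ^ f) (g : PG)
    (hg : p ∣ orderOf g) : orderOf g = p := by
  have hodd : Odd (Fintype.card F) := hq ▸ (hp.out.odd_of_ne_two hp2).pow
  have hpq : p ∣ Fintype.card F := hq ▸ dvd_pow_self p (by omega)
  have h1 : 1 ≤ Fintype.card F := Fintype.card_pos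
  rcases H67.orderOf_PGL_dvd hodd g with h | h | h
  · rw [ringChar_eq hf hq] at h
    exact Nat.dvd_antisymm h hg
  · exfalso
    have := Nat.dvd_sub hpq (hg.trans h)
    rw [Nat.sub_sub_self h1] at this
    exact hp.out.ne_one (Nat.dvd_one.1 this)
  · exfalso
    exact hp.out.ne_one (Nat.dvd_one.1 ((Nat.dvd_add_right hpq).1 (hg.trans h)))

theorem model_regular (hp2 : p ≠ 2) (hf : 1 ≤ f) (hq : Fintype.card F = p ^ f) {n : ℕ}
    (hn : ¬ p ∣ n) (hn1 : n ≠ 1) : p ^ f ∣ num PG n := by
  obtain ⟨U, hU⟩ := Sylow.exists_subgroup_card_pow_prime (G := PG) p (n := f)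
    (model_card hq ▸ Dvd.intro _ rfl)
  rw [← hU]
  refine dvd_num_of_free U fun u hu g hg hc => ?_
  by_contra h1
  have hd : orderOf u ∣ p ^ f := hU ▸ Subgroup.orderOf_dvd_natCard U hu
  obtain ⟨k, -, hk⟩ := (Nat.dvd_prime_pow hp.out).1 hd
  have hk0 : k ≠ 0 := fun h => h1 (orderOf_eq_one_iff.1 (by rw [hk, h, pow_zero]))
  have hcop : (orderOf u).Coprime (orderOf g) := by
    rw [hk, hg]; exact ((hp.out.coprime_iff_not_dvd).2 hn).pow_left k
  have hm := hc.orderOf_mul_eq_mul_orderOf_of_coprime hcop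
  have hp' : p ∣ orderOf (u * g) := hm ▸ Dvd.dvd.mul_right (hk ▸ dvd_pow_self p hk0) _
  have := model_singular hp2 hf hq _ hp'
  rw [hm, hg] at this
  have h2 : n ∣ p := this ▸ Dvd.intro_left _ rfl
  rcases (Nat.dvd_prime hp.out).1 h2 with h | h
  · exact hn1 h
  · exact hn (h ▸ dvd_rfl)

theorem model_num_prime (hp2 : p ≠ 2) (hf : 1 ≤ f) (hq : Fintype.card F = p ^ f) :
    num PG p = (p ^ f) ^ 2 - 1 := by
  classical
  haveI := Fintype.ofFinite PG
  rw [num_prime_of_singular (model_singular hp2 hf hq),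
    card_singular hp2 hf (model_card hq) fun g hg hg1 =>
      model_regular hp2 hf hq hg fun h => hg1 (orderOf_eq_one_iff.1 h)]

omit [Fintype F] in
theorem mk_orderOf_two {g : GL (Fin 2) F} (h : g ∉ Subgroup.center (GL (Fin 2) F))
    (h2 : g * g ∈ Subgroup.center (GL (Fin 2) F)) : orderOf (QuotientGroup.mk g : PG) = 2 :=
  orderOf_eq_prime (by rw [← QuotientGroup.mk_pow, QuotientGroup.eq_one_iff, sq]; exact h2)
    (by rwa [Ne, QuotientGroup.eq_one_iff])

theorem model_num_two (hodd : Odd (Fintype.card F)) : num PG 2 = Fintype.card F ^ 2 := by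
  classical
  have h20 : (2 : F) ≠ 0 := H67.two_ne_zero_of_odd hodd
  let A : {v : F × F // 1 + v.1 * v.2 ≠ 0} → GL (Fin 2) F := fun v =>
    GeneralLinearGroup.mkOfDetNeZero !![1, v.1.1; v.1.2, -1] (by
      rw [Matrix.det_fin_two_of]
      intro h
      exact v.2 (by linear_combination -h))
  let B : Fˣ → GL (Fin 2) F := fun c =>
    GeneralLinearGroup.mkOfDetNeZero !![0, 1; (c : F), 0] (by rw [Matrix.det_fin_two_of]; simp)
  let C : {v : F × F // 1 + v.1 * v.2 ≠ 0} ⊕ Fˣ → GL (Fin 2) F := Sum.elim A B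
  have hC : ∀ z, C z ∉ Subgroup.center (GL (Fin 2) F) ∧
      C z * C z ∈ Subgroup.center (GL (Fin 2) F) := by
    intro z
    refine ⟨fun h => ?_, H67.mem_center_GL_two.2 ?_⟩
    · obtain ⟨c, hc⟩ := H67.mem_center_GL_two.1 h
      have e1 := congrFun (congrFun hc 0) 0
      have e2 := congrFun (congrFun hc 1) 1
      have e3 := congrFun (congrFun hc 0) 1
      rcases z with v | u <;> simp [C, A, B] at e1 e2 e3
      exact h20 (by linear_combination e1 - e2)
    · rcases z with v | u
      · refine ⟨1 + v.1.1 * v.1.2, ?_⟩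
        ext i j
        fin_cases i <;> fin_cases j <;>
          simp [C, A, Matrix.mul_apply, Fin.sum_univ_two] <;> ring
      · refine ⟨u, ?_⟩
        ext i j
        fin_cases i <;> fin_cases j <;> simp [C, B, Matrix.mul_apply, Fin.sum_univ_two]
  let Φ : {v : F × F // 1 + v.1 * v.2 ≠ 0} ⊕ Fˣ → {x : PG // orderOf x = 2} := fun z =>
    ⟨QuotientGroup.mk (C z), mk_orderOf_two (hC z).1 (hC z).2⟩
  have hinj : Function.Injective Φ := by
    intro z z' h
    have h' := QuotientGroup.eq.1 (congrArg Subtype.val h)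
    obtain ⟨c, hc⟩ := H67.mem_center_GL_two.1 h'
    have hz : (C z').val = c • (C z).val := by
      have : C z' = C z * ((C z)⁻¹ * C z') := by group
      rw [this, Units.val_mul, hc, Matrix.mul_smul, mul_one]
    have e00 := congrFun (congrFun hz 0) 0
    have e01 := congrFun (congrFun hz 0) 1
    have e10 := congrFun (congrFun hz 1) 0
    rcases z with v | u <;> rcases z' with v' | u' <;> simp [C, A, B] at e00 e01 e10 ⊢
    · subst e00
      rw [one_mul] at e01 e10
      exact Subtype.ext (Prod.ext e01.symm e10.symm)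
    · exact one_ne_zero (e01.trans (by rw [← e00, zero_mul]))
    · rw [← e01, one_mul] at e10
      exact Units.ext e10.symm
  have hsurj : Function.Surjective Φ := by
    rintro ⟨x, hx⟩
    obtain ⟨g, rfl⟩ := QuotientGroup.mk_surjective x
    have h2 : g * g ∈ Subgroup.center (GL (Fin 2) F) := by
      have h := pow_orderOf_eq_one (QuotientGroup.mk g : PG)
      rw [hx] at h
      rw [← QuotientGroup.eq_one_iff, QuotientGroup.mk_mul, ← sq]
      exact h
    have h1 : g ∉ Subgroup.center (GL (Fin 2) F) := fun h => by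
      rw [(QuotientGroup.eq_one_iff g).2 h, orderOf_one] at hx
      omega
    obtain ⟨c, hc⟩ := H67.mem_center_GL_two.1 h2
    have e00 := congrFun (congrFun hc 0) 0
    have e01 := congrFun (congrFun hc 0) 1
    have e10 := congrFun (congrFun hc 1) 0
    have e11 := congrFun (congrFun hc 1) 1
    simp [Matrix.mul_apply, Fin.sum_univ_two] at e00 e01 e10 e11
    have htr : g.val 0 0 + g.val 1 1 = 0 := by
      by_contra htr
      have hb : g.val 0 1 = 0 := mul_left_cancel₀ htr (by linear_combination e01)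
      have hc' : g.val 1 0 = 0 := mul_left_cancel₀ htr (by linear_combination e10)
      apply h1
      refine H67.mem_center_GL_two.2 ⟨g.val 0 0, ?_⟩
      have : (g.val 0 0 - g.val 1 1) * (g.val 0 0 + g.val 1 1) = 0 := by linear_combination e00 - e11
      have hd : g.val 1 1 = g.val 0 0 :=
        (sub_eq_zero.1 ((mul_eq_zero.1 this).resolve_right htr)).symm
      ext i j
      fin_cases i <;> fin_cases j <;> simp [hb, hc', hd]
    have hd : g.val 1 1 = -g.val 0 0 := by linear_combination htr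
    have hdet : g.val 0 0 * g.val 1 1 - g.val 0 1 * g.val 1 0 ≠ 0 := by
      rw [← Matrix.det_fin_two]
      exact ((Matrix.isUnit_iff_isUnit_det _).1 g.isUnit).ne_zero
    have fin : ∀ (z : {v : F × F // 1 + v.1 * v.2 ≠ 0} ⊕ Fˣ) (k : F),
        g.val = k • (C z).val → Φ z = ⟨QuotientGroup.mk g, hx⟩ := fun z k hk => by
      refine Subtype.ext (QuotientGroup.eq.2 (H67.mem_center_GL_two.2 ⟨k, ?_⟩))
      rw [Units.val_mul, hk, Matrix.mul_smul, Units.inv_mul]
    by_cases ha : g.val 0 0 = 0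
    · have hb : g.val 0 1 ≠ 0 := fun h => hdet (by rw [ha, h]; ring)
      have hc' : g.val 1 0 ≠ 0 := fun h => hdet (by rw [ha, h]; ring)
      refine ⟨Sum.inr (Units.mk0 (g.val 1 0 / g.val 0 1) (div_ne_zero hc' hb)), fin _ (g.val 0 1) ?_⟩
      ext i j
      fin_cases i <;> fin_cases j <;> simp [C, B, ha, hd] <;> field_simp
    · refine ⟨Sum.inl ⟨(g.val 0 1 / g.val 0 0, g.val 1 0 / g.val 0 0), ?_⟩, fin _ (g.val 0 0) ?_⟩
      · intro h
        field_simp at h
        exact hdet (by rw [hd]; linear_combination -h)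
      · ext i j
        fin_cases i <;> fin_cases j <;> simp [C, A, hd] <;> field_simp
  let e0 : {v : F × F // ¬ (1 + v.1 * v.2 ≠ 0)} ≃ Fˣ :=
    { toFun := fun v => Units.mk0 v.1.1 (fun h => v.2 (by simp [h]))
      invFun := fun a => ⟨((a : F), -(a : F)⁻¹), by simp⟩
      left_inv := fun v => by
        rcases v with ⟨⟨a, b⟩, h⟩
        rw [not_not] at h
        have ha : a ≠ 0 := fun e => by simp [e] at h
        refine Subtype.ext (Prod.ext rfl ?_)
        simp only [Units.val_mk0]
        field_simp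
        linear_combination -h
      right_inv := fun a => Units.ext rfl }
  rw [num, ← Nat.card_eq_of_bijective Φ ⟨hinj, hsurj⟩, Nat.card_sum, ← Nat.card_congr e0,
    ← Nat.card_sum, Nat.card_congr (Equiv.sumCompl _), Nat.card_prod, Nat.card_eq_fintype_card, sq]

end Model

end Cfsg.Agent.H43.NsePGL
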