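import Mathlib
import Cfsg.Agent.H43.NsePGL.Count
import Cfsg.Agent.H33.SharplyThreeField

/-!
A group of order `q (q ^ 2 - 1)` with the element counts of `PGL₂(q)` is sharply 3-transitive.
-/

set_option autoImplicit false
set_option linter.unusedSectionVars false

namespace Cfsg.Agent.H43.NsePGL

open scoped Pointwise

universe u

/-- The counting data. -/
structure Counts (G : Type u) [Group G] (p f : ℕ) : Prop where
  two : p ≠ 2
  fpos : 1 ≤ f
  card : Nat.card G = p ^ f * ((p ^ f) ^ 2 - 1)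
  sing : ∀ g : G, p ∣ orderOf g → orderOf g = p
  numP : num G p = (p ^ f) ^ 2 - 1
  numTwo : num G 2 = (p ^ f) ^ 2

variable {G : Type u} [Group G] [Finite G] {p f : ℕ} [hp : Fact p.Prime]

theorem Counts.one_lt (h : Counts G p f) : 1 < p ^ f := Nat.one_lt_pow (Nat.one_le_iff_ne_zero.1 h.fpos) hp.out.one_lt

theorem Counts.sq_pos (h : Counts G p f) : 0 < (p ^ f) ^ 2 - 1 := by
  have := Nat.one_lt_pow two_ne_zero h.one_lt
  omega

theorem Counts.pow_p_of_commute (h : Counts G p f) {x y : G} (hx : orderOf x = p) (hc : Commute x y) :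
    y ^ p = 1 := by
  by_cases hd : p ∣ orderOf y
  · rw [← h.sing y hd]; exact pow_orderOf_eq_one y
  · have hcop : (orderOf x).Coprime (orderOf y) := hx ▸ hp.out.coprime_iff_not_dvd.2 hd
    have hm := hc.orderOf_mul_eq_mul_orderOf_of_coprime hcop
    have := h.sing (x * y) (by rw [hm, hx]; exact dvd_mul_right _ _)
    rw [hm, hx] at this
    have h1 : orderOf y = 1 := Nat.eq_of_mul_eq_mul_left hp.out.pos (by rw [this, mul_one])
    rw [orderOf_eq_one_iff.1 h1, one_pow]

theorem Counts.class_data (h : Counts G p f) {x : G} (hx : orderOf x = p) :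
    Nat.card (Subgroup.centralizer ({x} : Set G)) = p ^ f ∧
      ∀ y : G, orderOf y = p → ∃ g : G, g * x * g⁻¹ = y := by
  classical
  set C := Subgroup.centralizer ({x} : Set G) with hC
  have hCp : IsPGroup p C := fun y => ⟨1, Subtype.ext (by
    rw [pow_one, SubmonoidClass.coe_pow, OneMemClass.coe_one]
    exact h.pow_p_of_commute hx (Subgroup.mem_centralizer_singleton_iff.1 y.2).symm)⟩
  obtain ⟨k, hk⟩ := hCp.exists_card_eq
  have hkf : k ≤ f := by
    have hd : p ^ k ∣ p ^ f * ((p ^ f) ^ 2 - 1) := h.card ▸ hk ▸ C.card_subgroup_dvd_card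
    exact (Nat.pow_dvd_pow_iff_le_right hp.out.one_lt).1
      (((coprime_aux h.fpos).pow_left k).dvd_of_dvd_mul_right hd)
  let φ : G ⧸ C → {g : G // orderOf g = p} := fun a =>
    ⟨a.out * x * a.out⁻¹, (MulEquiv.orderOf_eq (MulAut.conj a.out) x).trans hx⟩
  have hφ : Function.Injective φ := fun a b hab => by
    have e : a.out * x * a.out⁻¹ = b.out * x * b.out⁻¹ := congrArg Subtype.val hab
    rw [← QuotientGroup.out_eq' a, ← QuotientGroup.out_eq' b, QuotientGroup.eq]
    refine Subgroup.mem_centralizer_singleton_iff.2 ?_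
    calc a.out⁻¹ * b.out * x = a.out⁻¹ * (b.out * x * b.out⁻¹) * b.out := by group
      _ = a.out⁻¹ * (a.out * x * a.out⁻¹) * b.out := by rw [e]
      _ = x * (a.out⁻¹ * b.out) := by group
  have hle : Nat.card (G ⧸ C) ≤ (p ^ f) ^ 2 - 1 := h.numP ▸ Nat.card_le_card_of_injective φ hφ
  have hmul : Nat.card (G ⧸ C) * p ^ k = p ^ f * ((p ^ f) ^ 2 - 1) := by
    rw [← h.card, ← hk, ← Subgroup.card_eq_card_quotient_mul_card_subgroup]
  have hkf' : k = f := by
    by_contra hne
    have hlt : p ^ k < p ^ f := Nat.pow_lt_pow_right hp.out.one_lt (by omega)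
    have h1 : Nat.card (G ⧸ C) * p ^ k ≤ ((p ^ f) ^ 2 - 1) * p ^ k := Nat.mul_le_mul_right _ hle
    have h2 : ((p ^ f) ^ 2 - 1) * p ^ k < ((p ^ f) ^ 2 - 1) * p ^ f :=
      Nat.mul_lt_mul_of_pos_left hlt h.sq_pos
    rw [hmul, Nat.mul_comm (p ^ f)] at h1
    omega
  subst hkf'
  refine ⟨hk, fun y hy => ?_⟩
  have hcard : Nat.card (G ⧸ C) = (p ^ k) ^ 2 - 1 := by
    rw [Nat.mul_comm (p ^ k) ((p ^ k) ^ 2 - 1)] at hmul
    exact Nat.eq_of_mul_eq_mul_right (pow_pos hp.out.pos k) hmul
  obtain ⟨a, ha⟩ := ((Nat.bijective_iff_injective_and_card φ).2 ⟨hφ, by rw [hcard]; exact h.numP.symm⟩).2 ⟨y, hy⟩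
  exact ⟨a.out, congrArg Subtype.val ha⟩

theorem Counts.exists_inverting (h : Counts G p f) {x : G} (hx : orderOf x = p) :
    ∃ t : G, t * t = 1 ∧ t * x * t⁻¹ = x⁻¹ := by
  obtain ⟨g, hg⟩ := (h.class_data hx).2 x⁻¹ (by rw [orderOf_inv, hx])
  have hgx : ∀ n : ℕ, g ^ n * x * (g ^ n)⁻¹ = if Even n then x else x⁻¹ := by
    intro n
    induction n with
    | zero => simp
    | succ n ih =>
      have e : g ^ (n + 1) * x * (g ^ (n + 1))⁻¹ = g * (g ^ n * x * (g ^ n)⁻¹) * g⁻¹ := by
        rw [pow_succ']; group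
      rw [e, ih]
      by_cases hn : Even n
      · rw [if_pos hn, if_neg (by rw [Nat.even_add_one]; exact not_not.2 hn)]; exact hg
      · rw [if_neg hn, if_pos (Nat.even_add_one.2 hn)]
        calc g * x⁻¹ * g⁻¹ = (g * x * g⁻¹)⁻¹ := by group
          _ = x := by rw [hg, inv_inv]
  have hc : Commute x (g ^ 2) := by
    have := hgx 2
    rw [if_pos (by decide)] at this
    exact (mul_inv_eq_iff_eq_mul.1 this).symm
  refine ⟨g ^ p, ?_, ?_⟩
  · rw [← pow_add, ← two_mul, pow_mul]
    exact h.pow_p_of_commute hx hc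
  · rw [hgx, if_neg (Nat.not_even_iff_odd.2 (hp.out.odd_of_ne_two h.two))]

/-- An element commuting with an element of order `p` and squaring to one is trivial. -/
theorem Counts.eq_one_of_sq (h : Counts G p f) {x t : G} (hx : orderOf x = p) (hc : Commute x t)
    (ht : t * t = 1) : t = 1 := by
  obtain ⟨k, hk⟩ := hp.out.odd_of_ne_two h.two
  have := h.pow_p_of_commute hx hc
  rwa [hk, pow_succ, pow_mul, sq, ht, one_pow, one_mul] at this

theorem Counts.centralizer_comm (h : Counts G p f) {x : G} (hx : orderOf x = p) :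
    ∀ y ∈ Subgroup.centralizer ({x} : Set G), ∀ z ∈ Subgroup.centralizer ({x} : Set G), y * z = z * y := by
  obtain ⟨t, ht, htx⟩ := h.exists_inverting hx
  set C := Subgroup.centralizer ({x} : Set G) with hC
  have hmem : ∀ y ∈ C, t * y * t⁻¹ ∈ C := fun y hy => by
    rw [hC, Subgroup.mem_centralizer_singleton_iff] at hy ⊢
    have e : (t * y * t⁻¹) * x⁻¹ = x⁻¹ * (t * y * t⁻¹) := by
      rw [← htx]
      calc t * y * t⁻¹ * (t * x * t⁻¹) = t * (y * x) * t⁻¹ := by group
        _ = t * (x * y) * t⁻¹ := by rw [hy]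
        _ = t * x * t⁻¹ * (t * y * t⁻¹) := by group
    exact Commute.inv_right_iff.1 (show Commute (t * y * t⁻¹) x⁻¹ from e)
  let φ : C →* C :=
    { toFun := fun y => ⟨t * y * t⁻¹, hmem y y.2⟩
      map_one' := Subtype.ext (by simp)
      map_mul' := fun a b => Subtype.ext (by simp [mul_assoc]) }
  have hinv : t⁻¹ = t := inv_eq_of_mul_eq_one_right ht
  have hfix : MonoidHom.FixedPointFree φ := fun y hy => by
    by_contra hy1
    have e : t * (y : G) * t⁻¹ = y := congrArg Subtype.val hy
    have hyp : orderOf (y : G) = p := orderOf_eq_prime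
      (h.pow_p_of_commute hx (Subgroup.mem_centralizer_singleton_iff.1 y.2).symm)
      (fun e => hy1 (Subtype.ext e))
    have ht1 := h.eq_one_of_sq hyp (mul_inv_eq_iff_eq_mul.1 e).symm ht
    rw [ht1, one_mul, inv_one, mul_one] at htx
    have : orderOf x ∣ 2 := orderOf_dvd_of_pow_eq_one (by rw [sq]; nth_rewrite 1 [htx]; exact inv_mul_cancel x)
    rw [hx] at this
    exact h.two ((Nat.prime_dvd_prime_iff_eq hp.out Nat.prime_two).1 this)
  have hinvol : Function.Involutive φ := fun y => Subtype.ext (by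
    show t * (t * (y : G) * t⁻¹) * t⁻¹ = y
    rw [hinv]
    calc t * (t * (y : G) * t) * t = (t * t) * y * (t * t) := by group
      _ = y := by rw [ht, one_mul, mul_one])
  intro y hy z hz
  exact congrArg Subtype.val (hfix.commute_all_of_involutive hinvol ⟨y, hy⟩ ⟨z, hz⟩).eq

theorem Counts.card_sylow (h : Counts G p f) (P : Sylow p G) : Nat.card (P : Subgroup G) = p ^ f := by
  rw [P.card_eq_multiplicity, h.card, Nat.factorization_mul (pow_ne_zero _ hp.out.ne_zero) h.sq_pos.ne',
    Finsupp.add_apply, Nat.Prime.factorization_pow hp.out, Finsupp.single_eq_same,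
    Nat.factorization_eq_zero_of_not_dvd (hp.out.coprime_iff_not_dvd.1 (coprime_aux h.fpos)), add_zero]

theorem Counts.centralizer_eq (h : Counts G p f) (P : Sylow p G) {x : G} (hxP : x ∈ (P : Subgroup G))
    (hx1 : x ≠ 1) : orderOf x = p ∧ Subgroup.centralizer ({x} : Set G) = P := by
  have hxp : orderOf x = p := by
    have hd : orderOf x ∣ p ^ f := h.card_sylow P ▸ Subgroup.orderOf_dvd_natCard _ hxP
    obtain ⟨k, -, hk⟩ := (Nat.dvd_prime_pow hp.out).1 hd
    have : k ≠ 0 := fun e => hx1 (orderOf_eq_one_iff.1 (by rw [hk, e, pow_zero]))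
    exact h.sing x (hk ▸ dvd_pow_self p this)
  refine ⟨hxp, ?_⟩
  set C := Subgroup.centralizer ({x} : Set G)
  obtain ⟨R, hR⟩ := (IsPGroup.of_card (h.class_data hxp).1).exists_le_sylow
  have hRC : C = R := Subgroup.eq_of_le_of_card_ge hR (by rw [h.card_sylow R, (h.class_data hxp).1])
  obtain ⟨g, hg⟩ := MulAction.exists_smul_eq G P R
  have hmem : ∀ y ∈ (P : Subgroup G), g * y * g⁻¹ ∈ C := fun y hy => by
    rw [hRC, ← hg, Sylow.coe_subgroup_smul]
    exact Subgroup.smul_mem_pointwise_smul y (MulAut.conj g) _ hy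
  refine (Subgroup.eq_of_le_of_card_ge (fun y hy => ?_) (by rw [h.card_sylow P, (h.class_data hxp).1])).symm
  rw [Subgroup.mem_centralizer_singleton_iff]
  have e := h.centralizer_comm hxp _ (hmem y hy) _ (hmem x hxP)
  calc y * x = g⁻¹ * ((g * y * g⁻¹) * (g * x * g⁻¹)) * g := by group
    _ = g⁻¹ * ((g * x * g⁻¹) * (g * y * g⁻¹)) * g := by rw [e]
    _ = x * y := by group

theorem Counts.sylow_ti (h : Counts G p f) {P Q : Sylow p G} {x : G} (hP : x ∈ (P : Subgroup G))
    (hQ : x ∈ (Q : Subgroup G)) (hx1 : x ≠ 1) : P = Q :=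
  Sylow.ext ((h.centralizer_eq P hP hx1).2.symm.trans (h.centralizer_eq Q hQ hx1).2)

theorem Counts.card_sylows (h : Counts G p f) : Nat.card (Sylow p G) = p ^ f + 1 := by
  classical
  haveI := Fintype.ofFinite (Sylow p G)
  let e : (Σ Q : Sylow p G, {a : (Q : Subgroup G) // a ≠ 1}) → {g : G // orderOf g = p} := fun z =>
    ⟨z.2.1, (h.centralizer_eq z.1 z.2.1.2 fun e => z.2.2 (Subtype.ext e)).1⟩
  have hbij : Function.Bijective e := by
    constructor
    · rintro ⟨Q, a⟩ ⟨R, b⟩ he
      have e' : (a.1 : G) = b.1 := congrArg Subtype.val he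
      have : Q = R := h.sylow_ti a.1.2 (e' ▸ b.1.2) (fun e => a.2 (Subtype.ext e))
      subst this
      exact Sigma.ext rfl (heq_of_eq (Subtype.ext (Subtype.ext e')))
    · rintro ⟨g, hg⟩
      obtain ⟨Q, hQ⟩ := (IsPGroup.of_card (n := 1) (by rw [Nat.card_zpowers, hg, pow_one]) :
        IsPGroup p (Subgroup.zpowers g)).exists_le_sylow
      exact ⟨⟨Q, ⟨⟨g, hQ (Subgroup.mem_zpowers g)⟩, fun e => by
        have : g = 1 := congrArg Subtype.val e
        rw [this, orderOf_one] at hg
        exact hp.out.ne_one hg.symm⟩⟩, rfl⟩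
  have hne : ∀ Q : Sylow p G, Nat.card {a : (Q : Subgroup G) // a ≠ 1} = p ^ f - 1 := fun Q => by
    haveI := Fintype.ofFinite (Q : Subgroup G)
    rw [Nat.card_eq_fintype_card, Fintype.card_subtype_compl, Fintype.card_subtype_eq,
      ← Nat.card_eq_fintype_card, h.card_sylow]
  have hsum := Nat.card_eq_of_bijective e hbij
  rw [Nat.card_sigma] at hsum
  simp only [hne, Finset.sum_const, Finset.card_univ, smul_eq_mul] at hsum
  rw [← Nat.card_eq_fintype_card] at hsum
  have hq := h.one_lt
  apply Nat.eq_of_mul_eq_mul_right (show 0 < p ^ f - 1 by omega)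
  rw [hsum, show Nat.card {g : G // orderOf g = p} = num G p from rfl, h.numP, ← Nat.sq_sub_sq, one_pow]

theorem Counts.free (h : Counts G p f) {P Q : Sylow p G} (hne : P ≠ Q) {u : G}
    (hu : u ∈ (P : Subgroup G)) (hQ : u • Q = Q) : u = 1 := by
  by_contra h1
  have hmem := Sylow.smul_eq_iff_mem_normalizer.1 hQ
  have hsp : IsPGroup p (Subgroup.zpowers u) :=
    IsPGroup.of_card (n := 1) (by rw [Nat.card_zpowers, (h.centralizer_eq P hu h1).1, pow_one])
  have := hsp.inf_normalizer_sylow Q
  exact hne (h.sylow_ti hu ((this.le ⟨Subgroup.mem_zpowers u, hmem⟩).2) h1)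

theorem conj_mem_of_fix {P : Sylow p G} {g : G} (hg : g • P = P) {u : G} (hu : u ∈ (P : Subgroup G)) :
    g * u * g⁻¹ ∈ (P : Subgroup G) :=
  (Subgroup.mem_normalizer_iff.1 (Sylow.smul_eq_iff_mem_normalizer.1 hg) u).1 hu

theorem fix_self {P : Sylow p G} {u : G} (hu : u ∈ (P : Subgroup G)) : u • P = P :=
  Sylow.smul_eq_iff_mem_normalizer.2 (Subgroup.le_normalizer hu)

theorem Counts.regular (h : Counts G p f) {P Q R : Sylow p G} (hQ : Q ≠ P) (hR : R ≠ P) :
    ∃ u ∈ (P : Subgroup G), u • Q = R := by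
  classical
  haveI := Fintype.ofFinite (Sylow p G)
  let m : ↥(P : Subgroup G) → {S : Sylow p G // S ≠ P} := fun u =>
    ⟨(u : G) • Q, fun e => hQ (smul_left_cancel (u : G) (e.trans (fix_self u.2).symm))⟩
  have hm : Function.Injective m := fun u v e => by
    have e' : (u : G) • Q = (v : G) • Q := congrArg Subtype.val e
    have := h.free hQ.symm (mul_mem (inv_mem v.2) u.2) (by rw [mul_smul, e', inv_smul_smul])
    exact Subtype.ext (inv_mul_eq_one.1 this).symm
  have hc : Nat.card {S : Sylow p G // S ≠ P} = Nat.card (P : Subgroup G) := by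
    rw [Nat.card_eq_fintype_card, Fintype.card_subtype_compl, Fintype.card_subtype_eq,
      ← Nat.card_eq_fintype_card, h.card_sylows, h.card_sylow, Nat.add_sub_cancel]
  obtain ⟨u, hu⟩ := ((Nat.bijective_iff_injective_and_card m).2 ⟨hm, hc.symm⟩).2 ⟨R, hR⟩
  exact ⟨u, u.2, congrArg Subtype.val hu⟩

theorem Counts.fix3 (h : Counts G p f) (g : G) (A B C : Sylow p G) (hAB : A ≠ B) (hAC : A ≠ C)
    (hBC : B ≠ C) (hA : g • A = A) (hB : g • B = B) (hC : g • C = C) : g = 1 := by
  obtain ⟨u, hu, hux⟩ := h.regular hAB.symm hAC.symm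
  have hu1 : u ≠ 1 := fun e => hBC (by rw [← hux, e, one_smul])
  have hw : g * u * g⁻¹ ∈ (A : Subgroup G) := conj_mem_of_fix hA hu
  have hgB : g⁻¹ • B = B := by rw [inv_smul_eq_iff, hB]
  have hwB : (g * u * g⁻¹) • B = C := by rw [mul_smul, mul_smul, hgB, hux, hC]
  have heq : u⁻¹ * (g * u * g⁻¹) = 1 := h.free hAB (mul_mem (inv_mem hu) hw)
    (by rw [mul_smul, hwB, ← hux, inv_smul_smul])
  have hgc : g ∈ Subgroup.centralizer ({u} : Set G) :=
    Subgroup.mem_centralizer_singleton_iff.2 (mul_inv_eq_iff_eq_mul.1 (inv_mul_eq_one.1 heq).symm)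
  rw [(h.centralizer_eq A hu hu1).2] at hgc
  exact h.free hAB hgc hB

theorem Counts.trans3 (h : Counts G p f) {A B C A' B' C' : Sylow p G} (hAB : A ≠ B) (hAC : A ≠ C)
    (hBC : B ≠ C) (hAB' : A' ≠ B') (hAC' : A' ≠ C') (hBC' : B' ≠ C') :
    ∃ g : G, g • A = A' ∧ g • B = B' ∧ g • C = C' := by
  classical
  haveI := Fintype.ofFinite (Sylow p G)
  haveI := Fintype.ofFinite G
  let emb : ∀ X Y Z : Sylow p G, X ≠ Y → X ≠ Z → Y ≠ Z → (Fin 3 ↪ Sylow p G) := fun X Y Z h1 h2 h3 =>
    ⟨![X, Y, Z], by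
      intro i j e
      fin_cases i <;> fin_cases j <;> first | rfl | simp_all⟩
  let m : G → (Fin 3 ↪ Sylow p G) := fun g => emb (g • A) (g • B) (g • C)
    (fun e => hAB (smul_left_cancel g e)) (fun e => hAC (smul_left_cancel g e))
    (fun e => hBC (smul_left_cancel g e))
  have hm : Function.Injective m := fun g g' e => by
    have e0 : g • A = g' • A := congrArg (fun v : Fin 3 ↪ Sylow p G => v 0) e
    have e1 : g • B = g' • B := congrArg (fun v : Fin 3 ↪ Sylow p G => v 1) e
    have e2 : g • C = g' • C := congrArg (fun v : Fin 3 ↪ Sylow p G => v 2) e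
    exact (inv_mul_eq_one.1 (h.fix3 (g'⁻¹ * g) A B C hAB hAC hBC (by rw [mul_smul, e0, inv_smul_smul])
      (by rw [mul_smul, e1, inv_smul_smul]) (by rw [mul_smul, e2, inv_smul_smul]))).symm
  have hc : Fintype.card (Fin 3 ↪ Sylow p G) = Fintype.card G := by
    rw [Fintype.card_embedding_eq, Fintype.card_fin, ← Nat.card_eq_fintype_card, h.card_sylows,
      ← Nat.card_eq_fintype_card, h.card]
    have hq := h.one_lt
    obtain ⟨r, hr⟩ : ∃ r, p ^ f = r + 1 := ⟨p ^ f - 1, by omega⟩
    rw [hr]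
    simp only [Nat.descFactorial_succ, Nat.descFactorial_zero]
    have : (r + 1) ^ 2 - 1 = r * (r + 2) := by
      have : (r + 1) ^ 2 = r * (r + 2) + 1 := by ring
      omega
    rw [this, show r + 1 + 1 - 2 = r by omega, show r + 1 + 1 - 1 = r + 1 by omega,
      show r + 1 + 1 - 0 = r + 2 by omega]
    ring
  obtain ⟨g, hg⟩ := ((Fintype.bijective_iff_injective_and_card m).2 ⟨hm, hc.symm⟩).2
    (emb A' B' C' hAB' hAC' hBC')
  exact ⟨g, congrArg (fun v : Fin 3 ↪ Sylow p G => v 0) hg, congrArg (fun v : Fin 3 ↪ Sylow p G => v 1) hg,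
    congrArg (fun v : Fin 3 ↪ Sylow p G => v 2) hg⟩

/-- Every element swapping two points is an involution. -/
theorem Counts.swap_sq (h : Counts G p f) {A : Sylow p G} {g : G} (h1 : g • A ≠ A)
    (h2 : g • g • A = A) : g * g = 1 := by
  classical
  haveI := Fintype.ofFinite G
  haveI := Fintype.ofFinite (Sylow p G)
  have hpick : ∀ y : Sylow p G, ∃ z, z ≠ A ∧ z ≠ y := fun y => by
    obtain ⟨w, -, hw⟩ := Finset.exists_mem_notMem_of_card_lt_card (s := ({A, y} : Finset (Sylow p G)))
      (t := Finset.univ) (lt_of_le_of_lt Finset.card_le_two (by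
        rw [Finset.card_univ, ← Nat.card_eq_fintype_card, h.card_sylows]
        have := h.one_lt
        omega))
    simp only [Finset.mem_insert, Finset.mem_singleton, not_or] at hw
    exact ⟨w, hw⟩
  choose c hcA hcy using hpick
  let S : Finset G := Finset.univ.filter fun g => g • A ≠ A ∧ g • g • A = A
  let I : Finset G := Finset.univ.filter fun g => orderOf g = 2 ∧ g • A ≠ A
  let J : Finset G := Finset.univ.filter fun g => orderOf g = 2 ∧ g • A = A
  have hIS : I ⊆ S := fun t ht => by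
    simp only [I, S, Finset.mem_filter, Finset.mem_univ, true_and] at ht ⊢
    refine ⟨ht.2, ?_⟩
    rw [← mul_smul, ← sq, ← ht.1, pow_orderOf_eq_one, one_smul]
  have hS : S.card ≤ p ^ f * (p ^ f - 1) := by
    let T : Finset (Sylow p G × Sylow p G) :=
      (Finset.univ.erase A ×ˢ Finset.univ.erase A).filter fun v => v.1 ≠ v.2
    have hT : T.card ≤ p ^ f * (p ^ f - 1) := by
      have e : (Finset.univ.erase A).card = p ^ f := by
        rw [Finset.card_erase_of_mem (Finset.mem_univ _), Finset.card_univ, ← Nat.card_eq_fintype_card,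
          h.card_sylows, Nat.add_sub_cancel]
      have : T = (Finset.univ.erase A).offDiag := by
        ext v
        simp [T, Finset.mem_offDiag]
        tauto
      rw [this, Finset.offDiag_card, e, Nat.mul_sub, mul_one]
    refine le_trans (Finset.card_le_card_of_injOn (fun g => (g • A, g • c (g • A))) ?_ ?_) hT
    · intro g hg
      simp only [S, Finset.coe_filter, Finset.mem_univ, true_and, Set.mem_ofPred_eq] at hg
      simp only [T, Finset.coe_filter, Finset.mem_product, Finset.mem_erase, Finset.mem_univ, and_true,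
        Set.mem_ofPred_eq]
      exact ⟨⟨hg.1, fun e => hcy _ (smul_left_cancel g (e.trans hg.2.symm))⟩,
        fun e => hcA _ (smul_left_cancel g e).symm⟩
    · intro g hg g' hg' e
      simp only [S, Finset.coe_filter, Finset.mem_univ, true_and, Set.mem_ofPred_eq] at hg hg'
      obtain ⟨e1, e2⟩ := Prod.mk.injEq _ _ _ _ ▸ e
      rw [← e1] at e2
      have e3 : g • g • A = g' • g • A := by rw [hg.2, e1, hg'.2]
      exact (inv_mul_eq_one.1 (h.fix3 (g'⁻¹ * g) A (g • A) (c (g • A)) hg.1.symm (hcA _).symm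
        (hcy _).symm (by rw [mul_smul, e1, inv_smul_smul]) (by rw [mul_smul, e3, inv_smul_smul])
        (by rw [mul_smul, e2, inv_smul_smul]))).symm
  have hJ : J.card ≤ p ^ f := by
    rcases J.eq_empty_or_nonempty with e | ⟨t0, ht0⟩
    · simp [e]
    have hinv : ∀ t ∈ J, ∀ u ∈ (A : Subgroup G), t * u * t⁻¹ = u⁻¹ := by
      intro t ht u hu
      simp only [J, Finset.mem_filter, Finset.mem_univ, true_and] at ht
      have ht2 : t * t = 1 := by rw [← sq, ← ht.1, pow_orderOf_eq_one]
      have hti : t⁻¹ = t := inv_eq_of_mul_eq_one_right ht2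
      set w := u * (t * u * t⁻¹) with hw
      have hwA : w ∈ (A : Subgroup G) := mul_mem hu (conj_mem_of_fix ht.2 hu)
      by_cases hw1 : w = 1
      · exact (inv_eq_of_mul_eq_one_right hw1).symm
      exfalso
      have hu1 : u ≠ 1 := fun e => hw1 (by simp [hw, e])
      have hcomm : (t * u * t⁻¹) * u = u * (t * u * t⁻¹) := by
        have := conj_mem_of_fix ht.2 hu
        rw [← (h.centralizer_eq A hu hu1).2] at this
        exact Subgroup.mem_centralizer_singleton_iff.1 this
      rw [hti] at hcomm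
      have hwt : Commute w t := by
        show w * t = t * w
        rw [hw, hti]
        calc u * (t * u * t) * t = u * t * u * (t * t) := by group
          _ = (t * t) * u * t * u := by rw [ht2, one_mul, mul_one]
          _ = t * ((t * u * t) * u) := by group
          _ = t * (u * (t * u * t)) := by rw [hcomm]
      have := h.eq_one_of_sq (h.centralizer_eq A hwA hw1).1 hwt ht2
      rw [this, orderOf_one] at ht
      exact absurd ht.1 (by norm_num)
    obtain ⟨v, hv, hv1⟩ : ∃ v ∈ (A : Subgroup G), v ≠ 1 := by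
      by_contra hcon
      push Not at hcon
      have : (A : Subgroup G) = ⊥ := (Subgroup.eq_bot_iff_forall _).2 hcon
      have h1 := h.card_sylow A
      rw [this, Subgroup.card_bot] at h1
      exact absurd h.one_lt (by omega)
    refine le_trans (Finset.card_le_card_of_injOn (fun t => t0 * t) (t := Finset.univ.filter fun g => g ∈ (A : Subgroup G)) ?_
      (fun a _ b _ e => mul_left_cancel e)) ?_
    · intro t ht
      simp only [Finset.coe_filter, Finset.mem_univ, true_and, Set.mem_ofPred_eq]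
      rw [← (h.centralizer_eq A hv hv1).2, Subgroup.mem_centralizer_singleton_iff]
      apply mul_inv_eq_iff_eq_mul.1
      calc t0 * t * v * (t0 * t)⁻¹ = t0 * (t * v * t⁻¹) * t0⁻¹ := by group
        _ = t0 * v⁻¹ * t0⁻¹ := by rw [hinv t ht v hv]
        _ = (t0 * v * t0⁻¹)⁻¹ := by group
        _ = v := by rw [hinv t0 ht0 v hv, inv_inv]
    · rw [← Fintype.card_subtype, ← h.card_sylow A, Nat.card_eq_fintype_card]
  have hIJ : J.card + I.card = num G 2 := by
    rw [num, Nat.card_eq_fintype_card, Fintype.card_subtype,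
      ← Finset.card_filter_add_card_filter_not (s := Finset.univ.filter fun g : G => orderOf g = 2)
        (fun g => g • A = A), Finset.filter_filter, Finset.filter_filter]
  rw [h.numTwo] at hIJ
  have hsplit : p ^ f * (p ^ f - 1) + p ^ f = (p ^ f) ^ 2 := by
    have := h.one_lt
    rw [Nat.mul_sub, mul_one, Nat.sub_add_cancel (Nat.le_mul_self _), sq]
  have hEq : I = S := Finset.eq_of_subset_of_card_le hIS (by omega)
  have hg : g ∈ I := hEq ▸ Finset.mem_filter.2 ⟨Finset.mem_univ g, h1, h2⟩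
  rw [← sq, ← (Finset.mem_filter.1 hg).2.1, pow_orderOf_eq_one]

/-- The identification. -/
theorem Counts.exists_iso (h : Counts G p f) :
    ∃ (F : Type) (_ : Field F) (_ : Fintype F), Fintype.card F = p ^ f ∧
      Nonempty (G ≃* Matrix.ProjGenLinGroup (Fin 2) F) := by
  classical
  haveI := Fintype.ofFinite (Sylow p G)
  have hcard : Fintype.card (Sylow p G) = p ^ f + 1 := by rw [← Nat.card_eq_fintype_card, h.card_sylows]
  have hq := h.one_lt
  obtain ⟨A, B, C, hAB, hAC, hBC⟩ := Fintype.two_lt_card_iff.1 (show 2 < Fintype.card (Sylow p G) by omega)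
  have hswap : ∀ k : G, k • A = A → k • B = B → ∀ s : G, s • A = B → s • B = A → (s * k) * (s * k) = 1 :=
    fun k ka kb s sa sb => h.swap_sq (A := A) (by rw [mul_smul, ka, sa]; exact hAB.symm)
      (by rw [mul_smul s k A, ka, sa, mul_smul, kb, sb])
  let D : H33.SharpField.Data G (Sylow p G) :=
    { a := A, b := B, c := C, hab := hAB, hac := hAC, hbc := hBC
      fix3 := h.fix3
      trans3 := fun _ _ _ _ _ _ h1 h2 h3 h4 h5 h6 => h.trans3 h1 h2 h3 h4 h5 h6
      T := A
      T_a := fun k hk => fix_self hk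
      T_b := fun x hx => h.regular hAB.symm hx
      T_free := fun k hk hkb => h.free hAB hk hkb
      T_conj := fun g hg k hk => conj_mem_of_fix hg hk
      T_odd := fun k hk hk2 => by
        by_contra hk1
        exact hk1 (h.eq_one_of_sq (h.centralizer_eq A hk hk1).1 rfl hk2)
      H_comm := fun g g' ga gb ga' gb' => by
        obtain ⟨s, sa, sb, -⟩ := h.trans3 hAB hAC hBC hAB.symm hBC hAC
        have e1 := hswap g ga gb s sa sb
        have e2 := hswap g' ga' gb' s sa sb
        have e12 := hswap (g * g') (by rw [mul_smul, ga', ga]) (by rw [mul_smul, gb', gb]) s sa sb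
        have a1 : s * g * s = g⁻¹ := eq_inv_of_mul_eq_one_left (by rw [← e1]; group)
        have a2 : s * g' * s = g'⁻¹ := eq_inv_of_mul_eq_one_left (by rw [← e2]; group)
        have a12 : s * (g * g') * s = (g * g')⁻¹ := eq_inv_of_mul_eq_one_left (by rw [← e12]; group)
        have hs : s * s = 1 := by
          have := hswap 1 (one_smul _ _) (one_smul _ _) s sa sb
          rwa [mul_one] at this
        have : (s * g * s) * (s * g' * s) = s * (g * g') * s := by
          calc (s * g * s) * (s * g' * s) = s * g * (s * s) * g' * s := by group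
            _ = s * (g * g') * s := by rw [hs]; group
        rw [a1, a2, a12, mul_inv_rev] at this
        calc g * g' = (g'⁻¹ * g⁻¹)⁻¹ := by group
          _ = (g⁻¹ * g'⁻¹)⁻¹ := by rw [this]
          _ = g' * g := by group }
  exact D.exists_field hcard fun g hg => h.fix3 g A B C hAB hAC hBC (hg A) (hg B) (hg C)

end Cfsg.Agent.H43.NsePGL
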