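import Mathlib
import Cfsg.Agent.H43.NsePGL.Structure

/-!
`PGL₂(q)`, `q` odd, from the order and the set of element counts.
-/

set_option autoImplicit false

namespace Cfsg.Agent.H43.NsePGL

universe u v

variable {p f : ℕ} [hp : Fact p.Prime]

theorem counts_model (F : Type v) [Field F] [Fintype F] (hp2 : p ≠ 2) (hf : 1 ≤ f)
    (hq : Fintype.card F = p ^ f) : Counts (GL (Fin 2) F ⧸ Subgroup.center (GL (Fin 2) F)) p f where
  two := hp2
  fpos := hf
  card := model_card hq
  sing := model_singular hp2 hf hq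
  numP := model_num_prime hp2 hf hq
  numTwo := by rw [model_num_two (hq ▸ (hp.out.odd_of_ne_two hp2).pow), hq]

theorem values_model {X : Type v} [Group X] [Finite X] (h : Counts X p f)
    (hreg : ∀ n : ℕ, ¬ p ∣ n → n ≠ 1 → p ^ f ∣ num X n) (n : ℕ) (h0 : 0 < num X n) :
    num X n = 1 ∨ num X n = (p ^ f) ^ 2 - 1 ∨ p ^ f ∣ num X n := by
  by_cases h1 : n = 1
  · subst h1; exact Or.inl (num_one X)
  by_cases hd : p ∣ n
  · obtain ⟨⟨g, hg⟩⟩ := (Nat.card_pos_iff.1 h0).1
    have : n = p := hg ▸ h.sing g (hg.symm ▸ hd)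
    exact Or.inr (Or.inl (by rw [this]; exact h.numP))
  · exact Or.inr (Or.inr (hreg n hd h1))

theorem counts_of_nse {G : Type u} [Group G] [Finite G] {X : Type v} [Group X] [Finite X]
    (hX : Counts X p f) (hreg : ∀ n : ℕ, ¬ p ∣ n → n ≠ 1 → p ^ f ∣ num X n)
    (hcard : Nat.card G = Nat.card X)
    (hnse : {c : ℕ | 0 < c ∧ ∃ n : ℕ, c = num G n} = {c : ℕ | 0 < c ∧ ∃ n : ℕ, c = num X n}) :
    Counts G p f := by
  classical
  haveI := Fintype.ofFinite G
  have hq := hX.one_lt
  have hG : Nat.card G = p ^ f * ((p ^ f) ^ 2 - 1) := hcard.trans hX.card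
  have hpG : p ∣ Nat.card G := hG ▸ Dvd.dvd.mul_right (dvd_pow_self p (by have := hX.fpos; omega)) _
  have hval : ∀ n, 0 < num G n → num G n = 1 ∨ num G n = (p ^ f) ^ 2 - 1 ∨ p ^ f ∣ num G n := fun n hn => by
    obtain ⟨-, m, hm⟩ := (Set.ext_iff.1 hnse (num G n)).1 ⟨hn, n, rfl⟩
    rw [hm] at hn ⊢
    exact values_model hX hreg m hn
  have hqodd : Odd (p ^ f) := (hp.out.odd_of_ne_two hX.two).pow
  -- elements of order `p`
  have hNp : num G p = (p ^ f) ^ 2 - 1 := by
    obtain ⟨x, hx⟩ := exists_prime_orderOf_dvd_card' p hpG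
    have hpos : 0 < num G p := Nat.card_pos_iff.2 ⟨⟨⟨x, hx⟩⟩, inferInstance⟩
    have hd : p ∣ num G p + 1 := by
      have h1 := H84.dvd_card_pow_eq_one (G := G) hpG
      have e : Nat.card {g : G // g ^ p = 1} = num G p + 1 := by
        rw [← num_one G, num, num, Nat.card_eq_fintype_card, Nat.card_eq_fintype_card, Nat.card_eq_fintype_card,
          Fintype.card_subtype, Fintype.card_subtype, Fintype.card_subtype, ← Finset.card_union_of_disjoint]
        · congr 1
          ext g
          simp only [Finset.mem_filter, Finset.mem_univ, true_and, Finset.mem_union]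
          constructor
          · intro hg
            rcases (Nat.dvd_prime hp.out).1 (orderOf_dvd_of_pow_eq_one hg) with h | h
            · exact Or.inr h
            · exact Or.inl h
          · rintro (hg | hg)
            · rw [← hg, pow_orderOf_eq_one]
            · rw [orderOf_eq_one_iff.1 hg, one_pow]
        · rw [Finset.disjoint_filter]
          intro g _ h1 h2
          exact hp.out.ne_one (h1.symm.trans h2)
      rwa [e] at h1
    rcases hval p hpos with h | h | h
    · rw [h] at hd
      exact absurd ((Nat.prime_dvd_prime_iff_eq hp.out Nat.prime_two).1 hd) hX.two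
    · exact h
    · exfalso
      have h2 : p ∣ num G p := (dvd_pow_self p (by have := hX.fpos; omega)).trans h
      exact hp.out.ne_one (Nat.dvd_one.1 ((Nat.dvd_add_right h2).1 hd))
  -- involutions
  have hN2 : num G 2 = (p ^ f) ^ 2 := by
    have hpos : 0 < (p ^ f) ^ 2 := by positivity
    obtain ⟨-, n, hn⟩ := (Set.ext_iff.1 hnse ((p ^ f) ^ 2)).2 ⟨hpos, 2, hX.numTwo.symm⟩
    have hn2 : n ≤ 2 := by
      by_contra hlt
      have := even_num G (n := n) (by omega)
      rw [← hn] at this
      exact Nat.not_odd_iff_even.2 this hqodd.pow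
    interval_cases n
    · haveI : IsEmpty {g : G // orderOf g = 0} := ⟨fun g => (orderOf_pos g.1).ne' g.2⟩
      rw [num, Nat.card_of_isEmpty] at hn
      omega
    · rw [num_one] at hn
      exact absurd hn (Nat.one_lt_pow two_ne_zero hq).ne'
    · exact hn.symm
  -- the other orders
  let A : Finset G := Finset.univ.filter fun g =>
    (orderOf g ≠ 1 ∧ orderOf g ≠ p) ∧ num G (orderOf g) = (p ^ f) ^ 2 - 1
  let B : Finset G := Finset.univ.filter fun g =>
    (orderOf g ≠ 1 ∧ orderOf g ≠ p) ∧ ¬ num G (orderOf g) = (p ^ f) ^ 2 - 1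
  have hB : p ^ f ∣ B.card := dvd_filter_card B _ (fun g hg g' h => by
      simp only [B, Finset.mem_filter, Finset.mem_univ, true_and] at hg ⊢
      rwa [h])
    (fun g hg => by
      simp only [B, Finset.mem_filter, Finset.mem_univ, true_and] at hg
      rcases hval _ (Nat.card_pos_iff.2 ⟨⟨⟨g, rfl⟩⟩, inferInstance⟩) with h | h | h
      · exfalso
        have he : ¬ 2 < orderOf g := fun h2 => by
          have := even_num G h2
          rw [h] at this
          exact absurd this (by decide)
        have : orderOf g = 2 := by have := orderOf_pos g; omega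
        rw [this, hN2] at h
        exact (Nat.one_lt_pow two_ne_zero hq).ne' h
      · exact absurd h hg.2
      · exact h)
  have hA : (p ^ f) ^ 2 - 1 ∣ A.card := dvd_filter_card A _ (fun g hg g' h => by
      simp only [A, Finset.mem_filter, Finset.mem_univ, true_and] at hg ⊢
      rwa [h])
    (fun g hg => by
      simp only [A, Finset.mem_filter, Finset.mem_univ, true_and] at hg
      rw [hg.2])
  have htot : 1 + num G p + A.card + B.card = Nat.card G := by
    have h1 := Finset.card_filter_add_card_filter_not (s := (Finset.univ : Finset G))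
      (fun g => orderOf g = 1)
    have h2 := Finset.card_filter_add_card_filter_not
      (s := Finset.univ.filter fun g : G => ¬ orderOf g = 1) (fun g => orderOf g = p)
    have h3 := Finset.card_filter_add_card_filter_not
      (s := Finset.univ.filter fun g : G => ¬ orderOf g = 1 ∧ ¬ orderOf g = p)
      (fun g => num G (orderOf g) = (p ^ f) ^ 2 - 1)
    simp only [Finset.filter_filter] at h2 h3
    have e : (Finset.univ.filter fun g : G => ¬ orderOf g = 1 ∧ orderOf g = p) =
        Finset.univ.filter fun g : G => orderOf g = p := by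
      ext g
      simp only [Finset.mem_filter, Finset.mem_univ, true_and]
      exact ⟨fun h => h.2, fun h => ⟨fun h' => hp.out.ne_one (h.symm.trans h'), h⟩⟩
    rw [e] at h2
    have e1 : (Finset.univ.filter fun g : G => orderOf g = 1).card = 1 := by
      rw [← Fintype.card_subtype, ← Nat.card_eq_fintype_card]; exact num_one G
    have e2 : (Finset.univ.filter fun g : G => orderOf g = p).card = num G p := by
      rw [← Fintype.card_subtype, ← Nat.card_eq_fintype_card]; rfl
    rw [Nat.card_eq_fintype_card, ← Finset.card_univ, ← e2]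
    simp only [A, B, ne_eq]
    omega
  have hA0 : A.card = 0 := by
    obtain ⟨k, hk⟩ := hA
    obtain ⟨j, hj⟩ := hB
    by_contra hA0
    have hk0 : 0 < k := Nat.pos_of_ne_zero fun e => hA0 (by rw [hk, e, mul_zero])
    have hm : (p ^ f) ^ 2 - 1 + 1 = (p ^ f) ^ 2 := Nat.sub_add_cancel (Nat.one_le_pow _ _ (pow_pos hp.out.pos _))
    rw [hNp, hk, hj, hG] at htot
    have hklt : k < p ^ f := by
      by_contra hc
      push Not at hc
      have : ((p ^ f) ^ 2 - 1) * p ^ f ≤ ((p ^ f) ^ 2 - 1) * k := Nat.mul_le_mul_left _ hc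
      rw [Nat.mul_comm (p ^ f) ((p ^ f) ^ 2 - 1)] at htot
      have := hX.sq_pos
      omega
    have hdk : p ^ f ∣ k := by
      generalize (p ^ f) ^ 2 - 1 = m at htot hm
      have : p ^ f * (p ^ f) + p ^ f * (p ^ f * k) + p ^ f * j = p ^ f * m + k := by
        rw [← sq, ← mul_assoc, ← sq, ← hm]
        linarith [htot]
      exact (Nat.dvd_add_right (Dvd.intro m rfl)).1 (this ▸ (((Dvd.intro _ rfl).add (Dvd.intro _ rfl)).add (Dvd.intro _ rfl)))
    exact absurd (Nat.le_of_dvd hk0 hdk) (by omega)
  have hregG : ∀ g : G, orderOf g ≠ 1 → orderOf g ≠ p → p ^ f ∣ num G (orderOf g) := by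
    intro g g1 gp
    rcases hval _ (Nat.card_pos_iff.2 ⟨⟨⟨g, rfl⟩⟩, inferInstance⟩) with h | h | h
    · exfalso
      have he : ¬ 2 < orderOf g := fun h2 => by
        have := even_num G h2
        rw [h] at this
        exact absurd this (by decide)
      have : orderOf g = 2 := by have := orderOf_pos g; omega
      rw [this, hN2] at h
      exact (Nat.one_lt_pow two_ne_zero hq).ne' h
    · exfalso
      rw [Finset.card_eq_zero] at hA0
      have : g ∈ A := Finset.mem_filter.2 ⟨Finset.mem_univ g, ⟨g1, gp⟩, h⟩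
      rw [hA0] at this
      simp at this
    · exact h
  have hsing := card_singular hX.two hX.fpos hG fun g hg hg1 =>
    hregG g (fun e => hg1 (orderOf_eq_one_iff.1 e)) (fun e => hg (e ▸ dvd_rfl))
  refine ⟨hX.two, hX.fpos, hG, fun g hg => ?_, hNp, hN2⟩
  have hsub : (Finset.univ.filter fun g : G => orderOf g = p) ⊆ Finset.univ.filter fun g : G => p ∣ orderOf g :=
    fun g hg => by
      simp only [Finset.mem_filter, Finset.mem_univ, true_and] at hg ⊢
      rw [hg]
  have heq := Finset.eq_of_subset_of_card_le hsub (by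
    rw [hsing, ← hNp, num, Nat.card_eq_fintype_card, Fintype.card_subtype])
  have hmem : g ∈ Finset.univ.filter fun g : G => p ∣ orderOf g := Finset.mem_filter.2 ⟨Finset.mem_univ g, hg⟩
  rw [← heq] at hmem
  exact (Finset.mem_filter.1 hmem).2

/-- `PGL₂` as a quotient, transported along an isomorphism of fields. -/
noncomputable def pglEquiv {F : Type u} {K : Type v} [Field F] [Field K] (e : F ≃+* K) :
    (GL (Fin 2) F ⧸ Subgroup.center (GL (Fin 2) F)) ≃* (GL (Fin 2) K ⧸ Subgroup.center (GL (Fin 2) K)) :=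
  let E : GL (Fin 2) F ≃* GL (Fin 2) K := Units.mapEquiv e.mapMatrix.toMulEquiv
  QuotientGroup.congr _ _ E (by
    ext x
    rw [Subgroup.mem_map, Subgroup.mem_center_iff]
    constructor
    · rintro ⟨z, hz, rfl⟩ y
      show y * E z = E z * y
      rw [← E.apply_symm_apply y, ← map_mul, ← map_mul, Subgroup.mem_center_iff.1 hz]
    · intro h
      refine ⟨E.symm x, Subgroup.mem_center_iff.2 fun y => ?_, E.apply_symm_apply x⟩
      apply E.injective
      rw [map_mul, map_mul, E.apply_symm_apply, h])

theorem main {F : Type v} [Field F] [Fintype F] (hodd : Odd (Fintype.card F)) {G : Type u} [Group G] [Finite G]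
    (hcard : Nat.card G = Nat.card (GL (Fin 2) F ⧸ Subgroup.center (GL (Fin 2) F)))
    (hnse : {c : ℕ | 0 < c ∧ ∃ n : ℕ, c = num G n} =
      {c : ℕ | 0 < c ∧ ∃ n : ℕ, c = num (GL (Fin 2) F ⧸ Subgroup.center (GL (Fin 2) F)) n}) :
    Nonempty (G ≃* (GL (Fin 2) F ⧸ Subgroup.center (GL (Fin 2) F))) := by
  classical
  obtain ⟨n, hr, hn⟩ := FiniteField.card F (ringChar F)
  haveI : Fact (ringChar F).Prime := ⟨hr⟩
  have h2 : ringChar F ≠ 2 := fun e => by
    rw [hn, e] at hodd
    exact Nat.not_odd_iff_even.2 ((Nat.even_pow' n.ne_zero).2 even_two) hodd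
  have hC := counts_of_nse (counts_model F h2 n.pos hn) (fun m hm hm1 => model_regular h2 n.pos hn hm hm1)
    hcard hnse
  obtain ⟨K, _, _, hK, ⟨ψ⟩⟩ := hC.exists_iso
  let e : K ≃+* F := FiniteField.ringEquivOfCardEq (hK.trans hn.symm)
  exact ⟨ψ.trans (pglEquiv e)⟩

end Cfsg.Agent.H43.NsePGL
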